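import Mathlib

/-!
# Arithmetic for the automorphisms of `F₄(q)` (helper351, for S3479)
-/

set_option autoImplicit false

namespace Cfsg.Agent.H351.F4Out.Arith

theorem eval_cyc8 (q : ℤ) : (Polynomial.cyclotomic 8 ℤ).eval q = q ^ 4 + 1 := by
  rw [show (8 : ℕ) = 2 ^ (2 + 1) by norm_num, Polynomial.cyclotomic_prime_pow_eq_geom_sum Nat.prime_two]
  simp [Finset.sum_range_succ]; ring

theorem eval_cyc12 (q : ℤ) : (Polynomial.cyclotomic 12 ℤ).eval q = q ^ 4 - q ^ 2 + 1 := by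
  have h := Polynomial.cyclotomic_expand_eq_cyclotomic Nat.prime_two (show 2 ∣ 6 by norm_num) ℤ
  rw [show 6 * 2 = 12 from rfl, Polynomial.cyclotomic_six] at h
  rw [← h, Polynomial.expand_eval]
  simp
  ring

theorem natAbs_cyc8 (q : ℕ) : ((Polynomial.cyclotomic 8 ℤ).eval (q : ℤ)).natAbs = q ^ 4 + 1 := by
  rw [eval_cyc8]
  have : (q : ℤ) ^ 4 + 1 = ((q ^ 4 + 1 : ℕ) : ℤ) := by push_cast; ring
  rw [this, Int.natAbs_natCast]

/-- `Φ₁₂(q)` as a natural number -/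
def n12 (q : ℕ) : ℕ := q ^ 4 - q ^ 2 + 1

theorem cast_n12 (q : ℕ) {R : Type*} [Ring R] : ((n12 q : ℕ) : R) = (q : R) ^ 4 - (q : R) ^ 2 + 1 := by
  have h : q ^ 2 ≤ q ^ 4 := by
    rcases Nat.eq_zero_or_pos q with rfl | h
    · norm_num
    · exact Nat.pow_le_pow_right h (by norm_num)
  rw [n12, Nat.cast_add, Nat.cast_sub h]
  push_cast
  ring

theorem natAbs_cyc12 (q : ℕ) : ((Polynomial.cyclotomic 12 ℤ).eval (q : ℤ)).natAbs = n12 q := by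
  rw [eval_cyc12]
  have : (q : ℤ) ^ 4 - (q : ℤ) ^ 2 + 1 = ((n12 q : ℕ) : ℤ) := (cast_n12 q).symm
  rw [this, Int.natAbs_natCast]

/-- an odd prime divisor of `q ^ 4 + 1` -/
theorem exists_prime8 {q : ℕ} (hq : 2 ≤ q) : ∃ r, r.Prime ∧ r ≠ 2 ∧ r ∣ q ^ 4 + 1 := by
  by_contra hcon
  push Not at hcon
  have h1 : ∀ r, r.Prime → r ∣ q ^ 4 + 1 → r = 2 := fun r hr hd => by
    by_contra h
    exact hcon r hr h hd
  have h16 : 16 ≤ q ^ 4 := by
    calc 16 = 2 ^ 4 := by norm_num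
      _ ≤ q ^ 4 := Nat.pow_le_pow_left hq 4
  obtain ⟨k, hk⟩ : ∃ k, q ^ 4 + 1 = 2 ^ k := by
    exact ⟨_, Nat.eq_prime_pow_of_unique_prime_dvd (by omega) fun {r} hr hd => h1 r hr hd⟩
  have h4 : ¬ 4 ∣ q ^ 4 + 1 := by
    intro h
    have h5 : (q ^ 4 + 1) % 4 = 0 := Nat.mod_eq_zero_of_dvd h
    rw [Nat.add_mod, Nat.pow_mod] at h5
    have h6 : q % 4 < 4 := Nat.mod_lt _ (by norm_num)
    interval_cases (q % 4) <;> simp at h5
  have hk2 : k < 2 := by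
    by_contra h
    apply h4
    rw [hk]
    exact pow_dvd_pow 2 (by omega : 2 ≤ k)
  have : 2 ^ k ≤ 2 ^ 1 := Nat.pow_le_pow_right (by norm_num) (by omega)
  omega

/-- the order of `q` modulo `r` is 8 -/
theorem od8 {q r : ℕ} (hr : r.Prime) (h2 : r ≠ 2) (h : r ∣ q ^ 4 + 1) : orderOf ((q : ℕ) : ZMod r) = 8 := by
  have hf : Fact r.Prime := ⟨hr⟩
  have h1 : (q : ZMod r) ^ 4 = -1 := by
    have h3 : ((q ^ 4 + 1 : ℕ) : ZMod r) = 0 := (ZMod.natCast_eq_zero_iff _ _).2 h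
    push_cast at h3
    linear_combination h3
  have hne : (-1 : ZMod r) ≠ 1 := by
    have : Fact (2 < r) := ⟨by have := hr.two_le; omega⟩
    exact ZMod.neg_one_ne_one
  have : (8 : ℕ) = 2 ^ (2 + 1) := by norm_num
  rw [this]
  have hf2 : Fact (Nat.Prime 2) := ⟨Nat.prime_two⟩
  apply orderOf_eq_prime_pow
  · show ¬ (q : ZMod r) ^ 4 = 1
    rw [h1]
    exact hne
  · show (q : ZMod r) ^ 8 = 1
    rw [show 8 = 4 * 2 by norm_num, pow_mul, h1]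
    ring

theorem pow_dvd8 {q₀ l r : ℕ} (hl : Odd l) (h : r ∣ q₀ ^ 4 + 1) : r ∣ (q₀ ^ l) ^ 4 + 1 := by
  refine h.trans ?_
  have := hl.nat_add_dvd_pow_add_pow (q₀ ^ 4) 1
  rw [one_pow, ← pow_mul, mul_comm 4 l, pow_mul] at this
  exact this

/-- a prime divisor of `Φ₁₂(q)` -/
theorem exists_prime12 {q : ℕ} (hq : 2 ≤ q) : ∃ r, r.Prime ∧ r ≠ 2 ∧ r ≠ 3 ∧ r ∣ n12 q := by
  have h4 : q ^ 2 * 4 ≤ q ^ 4 := by nlinarith [Nat.pow_le_pow_left hq 2]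
  have h2 : 4 ≤ q ^ 2 := by nlinarith
  have hne : n12 q ≠ 1 := by
    rw [n12]
    omega
  obtain ⟨r, hr, hd⟩ := Nat.exists_prime_and_dvd hne
  refine ⟨r, hr, ?_, ?_, hd⟩
  · rintro rfl
    have h1 : ((n12 q : ℕ) : ZMod 2) = 0 := (ZMod.natCast_eq_zero_iff _ _).2 hd
    rw [cast_n12] at h1
    generalize (q : ZMod 2) = y at h1
    revert y
    decide
  · rintro rfl
    have h1 : ((n12 q : ℕ) : ZMod 3) = 0 := (ZMod.natCast_eq_zero_iff _ _).2 hd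
    rw [cast_n12] at h1
    generalize (q : ZMod 3) = y at h1
    revert y
    decide

/-- the order of `q` modulo `r` is 12 -/
theorem od12 {q r : ℕ} (hr : r.Prime) (h2 : r ≠ 2) (h3 : r ≠ 3) (h : r ∣ n12 q) : orderOf ((q : ℕ) : ZMod r) = 12 := by
  have hf : Fact r.Prime := ⟨hr⟩
  have h1 : (q : ZMod r) ^ 4 - (q : ZMod r) ^ 2 + 1 = 0 := by
    rw [← cast_n12]
    exact (ZMod.natCast_eq_zero_iff _ _).2 h
  set y : ZMod r := (q : ZMod r)
  have hr2 := hr.two_le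
  have h6 : y ^ 6 = -1 := by linear_combination (y ^ 2 + 1) * h1
  have hn : ∀ n : ℕ, n = 2 ∨ n = 3 → (n : ZMod r) ≠ 0 := by
    intro n hn h0
    rw [ZMod.natCast_eq_zero_iff] at h0
    rcases hn with rfl | rfl
    · exact h2 ((Nat.prime_dvd_prime_iff_eq hr Nat.prime_two).1 h0)
    · exact h3 ((Nat.prime_dvd_prime_iff_eq hr Nat.prime_three).1 h0)
  have hn2 : (2 : ZMod r) ≠ 0 := by exact_mod_cast hn 2 (Or.inl rfl)
  have hn3 : (3 : ZMod r) ≠ 0 := by exact_mod_cast hn 3 (Or.inr rfl)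
  refine orderOf_eq_of_pow_and_pow_div_prime (by norm_num) ?_ ?_
  · have : y ^ 12 = (y ^ 6) ^ 2 := by ring
    rw [this, h6]; ring
  · intro p hp hp12
    have hp23 : p = 2 ∨ p = 3 := by
      have : p ∣ 2 ^ 2 * 3 := by norm_num; exact hp12
      rcases hp.dvd_mul.1 this with h | h
      · exact Or.inl ((Nat.prime_dvd_prime_iff_eq hp Nat.prime_two).1 (hp.dvd_of_dvd_pow h))
      · exact Or.inr ((Nat.prime_dvd_prime_iff_eq hp Nat.prime_three).1 h)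
    rcases hp23 with rfl | rfl
    · show y ^ 6 ≠ 1
      rw [h6]
      intro h0
      exact hn2 (by linear_combination -h0)
    · show y ^ 4 ≠ 1
      intro h0
      have h5 : y ^ 2 = 2 := by linear_combination h0 - h1
      have h7 : y ^ 4 = 4 := by
        have : y ^ 4 = (y ^ 2) ^ 2 := by ring
        rw [this, h5]; norm_num
      exact hn3 (by linear_combination h0 - h7)

theorem od12_pow {q₀ l r : ℕ} (hr : r.Prime) (h2 : r ≠ 2) (h3 : r ≠ 3) (h : r ∣ n12 q₀) (hl : Nat.Coprime 12 l) :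
    orderOf (((q₀ ^ l : ℕ)) : ZMod r) = 12 := by
  have h1 := od12 hr h2 h3 h
  rw [Nat.cast_pow, Nat.Coprime.orderOf_pow (by rw [h1]; exact hl), h1]

/-- `Φ₈(q)` and `Φ₁₂(q)` are coprime -/
theorem not_both {q l : ℕ} (hl : l.Prime) (h8 : l ∣ q ^ 4 + 1) (h12 : l ∣ n12 q) : False := by
  have hf : Fact l.Prime := ⟨hl⟩
  have h1 : (q : ZMod l) ^ 4 - (q : ZMod l) ^ 2 + 1 = 0 := by
    rw [← cast_n12]
    exact (ZMod.natCast_eq_zero_iff _ _).2 h12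
  have h2 : (q : ZMod l) ^ 4 + 1 = 0 := by
    have h3 : ((q ^ 4 + 1 : ℕ) : ZMod l) = 0 := (ZMod.natCast_eq_zero_iff _ _).2 h8
    push_cast at h3
    exact h3
  have h3 : (q : ZMod l) ^ 2 = 0 := by linear_combination h2 - h1
  have h4 : (1 : ZMod l) = 0 := by linear_combination h2 - (q : ZMod l) ^ 2 * h3
  exact one_ne_zero h4

theorem three_not {q : ℕ} : ¬ 3 ∣ q ^ 4 + 1 := by
  intro h
  have h1 : ((q ^ 4 + 1 : ℕ) : ZMod 3) = 0 := (ZMod.natCast_eq_zero_iff _ _).2 h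
  push_cast at h1
  generalize (q : ZMod 3) = y at h1
  revert y
  decide

theorem dvd_card8 {q r : ℕ} (h : r ∣ q ^ 4 + 1) : r ∣ q ^ 24 * (q ^ 2 - 1) * (q ^ 6 - 1) * (q ^ 8 - 1) * (q ^ 12 - 1) := by
  have h1 : q ^ 8 - 1 = (q ^ 4 + 1) * (q ^ 4 - 1) := by
    have := Nat.sq_sub_sq (q ^ 4) 1
    rw [one_pow, ← pow_mul] at this
    exact this
  exact Dvd.dvd.mul_right (Dvd.dvd.mul_left (h1 ▸ h.mul_right _) _) _

theorem dvd_card12 {q r : ℕ} (hq : 1 ≤ q) (h : r ∣ n12 q) :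
    r ∣ q ^ 24 * (q ^ 2 - 1) * (q ^ 6 - 1) * (q ^ 8 - 1) * (q ^ 12 - 1) := by
  have h1 : n12 q ∣ q ^ 12 - 1 := by
    have h2 : 1 ≤ q ^ 12 := Nat.one_le_pow _ _ hq
    rw [← Int.natCast_dvd_natCast, cast_n12, Nat.cast_sub h2]
    push_cast
    exact ⟨(q ^ 2 + 1) * (q ^ 6 - 1), by ring⟩
  exact (h.trans h1).mul_left _

/-- uniqueness of the `p`-part -/
theorem uniq {p b m B M : ℕ} (hp : p.Prime) (h : p ^ B * M = p ^ b * m) (hm : ¬ p ∣ m) (hM : ¬ p ∣ M) : b = B ∧ m = M := by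
  have key : ∀ {b m B M : ℕ}, p ^ B * M = p ^ b * m → ¬ p ∣ m → ¬ p ∣ M → B ≤ b := by
    intro b m B M h hm hM
    by_contra hlt
    obtain ⟨c, rfl⟩ : ∃ c, B = b + c + 1 := ⟨B - b - 1, by omega⟩
    apply hm
    have h1 : p ^ b * (p ^ (c + 1) * M) = p ^ b * m := by rw [← h, ← mul_assoc, ← pow_add]; rfl
    have h2 := Nat.eq_of_mul_eq_mul_left (pow_pos hp.pos b) h1
    rw [← h2, pow_succ]
    exact ⟨p ^ c * M, by ring⟩
  have h1 : B = b := le_antisymm (key h hm hM) (key h.symm hM hm)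
  subst h1
  exact ⟨rfl, (Nat.eq_of_mul_eq_mul_left (pow_pos hp.pos B) h).symm⟩

end Cfsg.Agent.H351.F4Out.Arith
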