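import Cfsg.Agent.H351.F4Out.Elt
import Cfsg.Agent.H351.F4Out.Arith
import Cfsg.Agent.H378.RegFin
import Cfsg.Agent.H378.OmF4
import Cfsg.Agent.S2663
import Cfsg.Agent.S1062

/-!
# Field automorphisms of `F₄(q)` and element orders (helper351, for S3479)

* `no_odd` : field automorphisms of odd prime order;
* `no_two` : field automorphisms of order two in characteristic 2, 3, 7, 11.
-/

set_option autoImplicit false
set_option linter.unusedSectionVars false

namespace Cfsg.Agent.H351.F4Out.Fld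

open Cfsg Cfsg.Lie Cfsg.Agent.CpAut.RgdUntw Cfsg.Agent.ChevalleyStructure.Elts Cfsg.Agent.H70.ChevFix
  Cfsg.Agent.H69.OutGF Cfsg.Agent.H351.F4Out.Elt Cfsg.Agent.H70.OutCount Cfsg.Agent.H70.ChevDiag
  Cfsg.Agent.H351.F4Out.Arith

universe u

variable {F : Type u} [Field F] [Fintype F]

/-- the non-orders -/
theorem no_32 [CharP F 2] : ¬ ∃ x : ↥(chevF4.group F), orderOf x = 32 := by
  rintro ⟨x, hx⟩
  have hf : Fact (Nat.Prime 2) := ⟨Nat.prime_two⟩
  obtain ⟨b, m, h⟩ := H378.OmF4.om_F4 (p := 2) (K := F) (q := Nat.card F) rfl x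
  obtain ⟨rfl, rfl⟩ := uniq Nat.prime_two (B := 5) (M := 1) (by rw [← h.eq, hx]; norm_num) h.nd (by norm_num)
  have := h.le (by norm_num)
  norm_num at this

theorem no_54 [CharP F 3] : ¬ ∃ x : ↥(chevF4.group F), orderOf x = 54 := by
  rintro ⟨x, hx⟩
  have hf : Fact (Nat.Prime 3) := ⟨Nat.prime_three⟩
  obtain ⟨b, m, h⟩ := H378.OmF4.om_F4 (p := 3) (K := F) (q := Nat.card F) rfl x
  obtain ⟨rfl, rfl⟩ := uniq Nat.prime_three (B := 3) (M := 2) (by rw [← h.eq, hx]; norm_num) h.nd (by norm_num)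
  have := h.s8 (by norm_num) (by norm_num)
  norm_num at this

theorem no_196 [CharP F 7] : ¬ ∃ x : ↥(chevF4.group F), orderOf x = 196 := by
  rintro ⟨x, hx⟩
  have hp : Nat.Prime 7 := by norm_num
  have hf : Fact (Nat.Prime 7) := ⟨hp⟩
  obtain ⟨b, m, h⟩ := H378.OmF4.om_F4 (p := 7) (K := F) (q := Nat.card F) rfl x
  obtain ⟨rfl, rfl⟩ := uniq hp (B := 2) (M := 4) (by rw [← h.eq, hx]; norm_num) h.nd (by norm_num)
  have := h.s6 (by norm_num) (by norm_num)
  norm_num at this

theorem no_242 [CharP F 11] : ¬ ∃ x : ↥(chevF4.group F), orderOf x = 242 := by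
  rintro ⟨x, hx⟩
  have hp : Nat.Prime 11 := by norm_num
  have hf : Fact (Nat.Prime 11) := ⟨hp⟩
  obtain ⟨b, m, h⟩ := H378.OmF4.om_F4 (p := 11) (K := F) (q := Nat.card F) rfl x
  obtain ⟨rfl, rfl⟩ := uniq hp (B := 2) (M := 2) (by rw [← h.eq, hx]; norm_num) h.nd (by norm_num)
  have := h.s8 (by norm_num) (by norm_num)
  norm_num at this

/-! ### Groups of automorphisms -/

theorem orderOf_conj (x : ↥(chevF4.group F)) : orderOf (MulAut.conj x) = orderOf x :=
  orderOf_injective _ (conj_injective hF4) x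

theorem isFieldAut (τ : F ≃+* F) : chevF4.IsFieldAut (fld chevF4 τ) := by
  refine ⟨τ, fun g r t _ hg => ?_⟩
  rw [fld_coe, hg]
  exact Cfsg.Agent.ChevStructure.FieldMap.x_map chevF4 (τ : F →+* F) r t

theorem fld_eq_one {τ : F ≃+* F} (h : fld chevF4 τ = 1) : τ = 1 := by
  ext a
  have h1 := fld_xe (F := F) τ 24 a
  rw [h] at h1
  exact (xe_inj hF4 (by decide) h1).symm

/-- the field automorphisms as a homomorphism -/
noncomputable def fldHom (F : Type*) [Field F] : (F ≃+* F) →* MulAut ↥(chevF4.group F) where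
  toFun τ := fld chevF4 τ
  map_one' := fld_one
  map_mul' τ τ' := fld_mul τ τ'

theorem fldHom_inj : Function.Injective (fldHom F) := by
  rw [injective_iff_map_eq_one]
  intro τ h
  exact fld_eq_one h

theorem orderOf_fld (τ : F ≃+* F) : orderOf (fld chevF4 τ) = orderOf τ := orderOf_injective (fldHom F) fldHom_inj τ

variable {A : Subgroup (MulAut ↥(chevF4.group F))}

/-- the hypothesis on the orders, used for divisors -/
theorem false_of_dvd (hord : ∀ a ∈ A, ∃ y : ↥(chevF4.group F), orderOf y = orderOf a) {a : MulAut ↥(chevF4.group F)}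
    (ha : a ∈ A) {n : ℕ} (hn : n ∣ orderOf a) (hno : ¬ ∃ x : ↥(chevF4.group F), orderOf x = n) : False := by
  obtain ⟨y, hy⟩ := hord a ha
  obtain ⟨j, hj⟩ := exists_pow_orderOf (a := y) (n := n) (by rw [hy]; exact hn) (orderOf_pos y).ne'
  exact hno ⟨_, hj⟩

theorem commute_conj {ψ : MulAut ↥(chevF4.group F)} {x : ↥(chevF4.group F)} (h : ψ x = x) :
    Commute (MulAut.conj x) ψ := by
  apply MulEquiv.ext
  intro g
  show (MulAut.conj x) (ψ g) = ψ ((MulAut.conj x) g)
  rw [MulAut.conj_apply, MulAut.conj_apply, map_mul, map_mul, map_inv, h]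

/-- a fixed element of order prime to the order of the automorphism -/
theorem false_of_fixed (hA : (MulAut.conj : ↥(chevF4.group F) →* MulAut ↥(chevF4.group F)).range ≤ A)
    (hord : ∀ a ∈ A, ∃ y : ↥(chevF4.group F), orderOf y = orderOf a) {ψ : MulAut ↥(chevF4.group F)} (hψ : ψ ∈ A)
    {x : ↥(chevF4.group F)} (hx : ψ x = x) (hcop : (orderOf x).Coprime (orderOf ψ)) {n : ℕ}
    (hn : n ∣ orderOf x * orderOf ψ) (hno : ¬ ∃ x : ↥(chevF4.group F), orderOf x = n) : False := by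
  have hmul : MulAut.conj x * ψ ∈ A := A.mul_mem (hA ⟨x, rfl⟩) hψ
  refine false_of_dvd hord hmul (n := n) ?_ hno
  rw [(commute_conj hx).orderOf_mul_eq_mul_orderOf_of_coprime (by rw [orderOf_conj]; exact hcop), orderOf_conj]
  exact hn

/-- orders of elements commuting with an element of order `r` -/
theorem dvd_of_cent {r n : ℕ} {N : ℕ}
    (hc : ∀ x : ↥(chevF4.group F), orderOf x = r → Nat.card ↥(Subgroup.centralizer ({x} : Set ↥(chevF4.group F))) ∣ N)
    (hn : n ≠ 0) (h : ∃ x : ↥(chevF4.group F), orderOf x = r * n) : n ∣ N := by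
  obtain ⟨x, hx⟩ := h
  have h1 : orderOf (x ^ n) = r := by
    rw [orderOf_pow_of_dvd hn (by rw [hx]; exact dvd_mul_left _ _), hx, Nat.mul_div_cancel _ (Nat.pos_of_ne_zero hn)]
  have h2 := hc _ h1
  have h3 : x ∈ Subgroup.centralizer ({x ^ n} : Set ↥(chevF4.group F)) := by
    rw [Subgroup.mem_centralizer_singleton_iff]
    exact ((Commute.refl x).pow_right n).eq
  have h4 := Subgroup.orderOf_dvd_natCard _ h3
  rw [hx] at h4
  exact (dvd_mul_left _ _).trans (h4.trans h2)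

theorem cent8 {r : ℕ} (hr : r.Prime) (h2 : r ≠ 2) (h : r ∣ Nat.card F ^ 4 + 1) (x : ↥(chevF4.group F))
    (hx : orderOf x = r) : Nat.card ↥(Subgroup.centralizer ({x} : Set ↥(chevF4.group F))) ∣ Nat.card F ^ 4 + 1 := by
  have h1 := (H378.RegFin.cent_od BpExc.RowsUntw.f4T BpExc.FamInst.inv_F4 one_ne_zero hr hx (od8 hr h2 h) (by decide)
    (by norm_num)).2
  rwa [natAbs_cyc8] at h1

theorem cent12 {r : ℕ} (hr : r.Prime) (h : orderOf ((Nat.card F : ℕ) : ZMod r) = 12) (x : ↥(chevF4.group F))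
    (hx : orderOf x = r) : Nat.card ↥(Subgroup.centralizer ({x} : Set ↥(chevF4.group F))) ∣ n12 (Nat.card F) := by
  have h1 := (H378.RegFin.cent_od BpExc.RowsUntw.f4T BpExc.FamInst.inv_F4 one_ne_zero hr hx h (by decide)
    (by norm_num)).2
  rwa [natAbs_cyc12] at h1

/-- an element of the fixed subgroup -/
theorem exists_fixed {τ : F ≃+* F} {l : ℕ} (hl : l.Prime) (hτ : orderOf τ = l) : ∃ q₀ : ℕ, 2 ≤ q₀ ∧ Nat.card F = q₀ ^ l ∧
    ∀ r : ℕ, r.Prime → r ∣ q₀ ^ 24 * (q₀ ^ 2 - 1) * (q₀ ^ 6 - 1) * (q₀ ^ 8 - 1) * (q₀ ^ 12 - 1) →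
      ∃ x : ↥(chevF4.group F), fld chevF4 τ x = x ∧ orderOf x = r := by
  obtain ⟨F₀, _, _, hF₀, ⟨e⟩⟩ := Cfsg.Agent.S2663.result (fld chevF4 τ) (isFieldAut τ) l hl (by rw [orderOf_fld, hτ])
  refine ⟨Fintype.card F₀, Fintype.one_lt_card, by rw [Nat.card_eq_fintype_card]; exact hF₀, fun r hr hd => ?_⟩
  rw [← Cfsg.Agent.S1062.result (F := F₀) rfl] at hd
  have hfr : Fact r.Prime := ⟨hr⟩
  obtain ⟨x₀, hx₀⟩ := exists_prime_orderOf_dvd_card' r hd
  refine ⟨(e.symm x₀ : ↥(chevF4.group F)), (e.symm x₀).2, ?_⟩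
  rw [Subgroup.orderOf_coe, MulEquiv.orderOf_eq, hx₀]

/-- **Field automorphisms of odd prime order.** -/
theorem no_odd (hA : (MulAut.conj : ↥(chevF4.group F) →* MulAut ↥(chevF4.group F)).range ≤ A)
    (hord : ∀ a ∈ A, ∃ y : ↥(chevF4.group F), orderOf y = orderOf a) {τ : F ≃+* F} {l : ℕ} (hl : l.Prime) (hl2 : l ≠ 2)
    (hτ : orderOf τ = l) : fld chevF4 τ ∉ A := by
  intro hmem
  obtain ⟨q₀, hq₀, hq, hfix⟩ := exists_fixed hl hτ
  have hlo : Odd l := hl.odd_of_ne_two hl2
  by_cases h8 : l ∣ Nat.card F ^ 4 + 1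
  · -- the torus of order `Φ₁₂`
    have hl3 : l ≠ 3 := by
      rintro rfl
      exact three_not h8
    obtain ⟨r, hr, hr2, hr3, hrd⟩ := exists_prime12 hq₀
    have hcop : Nat.Coprime 12 l := by
      have h1 : Nat.Coprime (2 ^ 2 * 3) l := by
        apply Nat.Coprime.mul_left
        · exact Nat.Coprime.pow_left 2 ((Nat.coprime_primes Nat.prime_two hl).2 (Ne.symm hl2))
        · exact (Nat.coprime_primes Nat.prime_three hl).2 (Ne.symm hl3)
      exact h1
    have hod : orderOf ((Nat.card F : ℕ) : ZMod r) = 12 := by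
      rw [hq]
      exact od12_pow hr hr2 hr3 hrd hcop
    have hrN : r ∣ n12 (Nat.card F) := by
      have := H378.RegFin.cyclotomic_dvd hr hod (by norm_num)
      rw [← natAbs_cyc12]
      exact Int.natCast_dvd.1 this
    have hrl : r ≠ l := by
      rintro rfl
      exact not_both hr h8 hrN
    obtain ⟨x, hx, hxo⟩ := hfix r hr (dvd_card12 (by omega) hrd)
    refine false_of_fixed hA hord hmem hx (n := r * l) ?_ ?_ ?_
    · rw [hxo, orderOf_fld, hτ]
      exact (Nat.coprime_primes hr hl).2 hrl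
    · rw [hxo, orderOf_fld, hτ]
    · intro hex
      have h1 := dvd_of_cent (n := l) (cent12 hr hod)
        hl.ne_zero hex
      exact not_both hl h8 h1
  · obtain ⟨r, hr, hr2, hrd⟩ := exists_prime8 hq₀
    have hrq : r ∣ Nat.card F ^ 4 + 1 := by
      rw [hq]
      exact pow_dvd8 hlo hrd
    have hrl : r ≠ l := by
      rintro rfl
      exact h8 hrq
    obtain ⟨x, hx, hxo⟩ := hfix r hr (dvd_card8 hrd)
    refine false_of_fixed hA hord hmem hx (n := r * l) ?_ ?_ ?_
    · rw [hxo, orderOf_fld, hτ]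
      exact (Nat.coprime_primes hr hl).2 hrl
    · rw [hxo, orderOf_fld, hτ]
    · intro hex
      exact h8 (dvd_of_cent (n := l) (cent8 hr hr2 hrq)
        hl.ne_zero hex)

/-- order two, characteristic 3 -/
theorem no_two_three [CharP F 3] (hA : (MulAut.conj : ↥(chevF4.group F) →* MulAut ↥(chevF4.group F)).range ≤ A)
    (hord : ∀ a ∈ A, ∃ y : ↥(chevF4.group F), orderOf y = orderOf a) {τ : F ≃+* F} (hτ : orderOf τ = 2) :
    fld chevF4 τ ∉ A := by
  intro hmem
  obtain ⟨k, hk, h⟩ := reg_order_three (F := F)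
  refine false_of_fixed hA hord hmem (fld_reg τ) (n := 54) ?_ ?_ no_54
  · rw [h, orderOf_fld, hτ]
    exact Nat.Coprime.pow_left k (by norm_num)
  · rw [h, orderOf_fld, hτ, show 54 = 3 ^ 3 * 2 by norm_num]
    exact mul_dvd_mul_right (pow_dvd_pow 3 hk) 2

/-- order two, characteristic 11 -/
theorem no_two_eleven [CharP F 11] (hA : (MulAut.conj : ↥(chevF4.group F) →* MulAut ↥(chevF4.group F)).range ≤ A)
    (hord : ∀ a ∈ A, ∃ y : ↥(chevF4.group F), orderOf y = orderOf a) {τ : F ≃+* F} (hτ : orderOf τ = 2) :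
    fld chevF4 τ ∉ A := by
  intro hmem
  obtain ⟨k, hk, h⟩ := reg_order_eleven (F := F)
  refine false_of_fixed hA hord hmem (fld_reg τ) (n := 242) ?_ ?_ no_242
  · rw [h, orderOf_fld, hτ]
    exact Nat.Coprime.pow_left k (by norm_num)
  · rw [h, orderOf_fld, hτ, show 242 = 11 ^ 2 * 2 by norm_num]
    exact mul_dvd_mul_right (pow_dvd_pow 11 hk) 2

/-- an element whose square is conjugation by a regular unipotent element -/
theorem false_of_sq [CharP F 2] (hord : ∀ a ∈ A, ∃ y : ↥(chevF4.group F), orderOf y = orderOf a)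
    {a : MulAut ↥(chevF4.group F)} (ha : a ∈ A) {L : List (ℕ × F)} (hL : ∀ q ∈ L, q.1 = 33 ∨ q.1 = 27 ∨ q.1 = 25 ∨ q.1 = 24)
    (hs : (L.map fun q => q.2 • Lin.E chevF4 F q.1).sum = Num.NN chevF4 (1 : F) [(33, 0), (27, 0), (25, 0), (24, 0)])
    (hsq : a ^ 2 = MulAut.conj (uw L)) : False := by
  have hfin : Finite (MulAut ↥(chevF4.group F)) :=
    Finite.of_injective (fun τ : MulAut ↥(chevF4.group F) => (τ : ↥(chevF4.group F) → ↥(chevF4.group F)))
      DFunLike.coe_injective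
  obtain ⟨k, hk, h⟩ := exists_orderOf (u := uw L) (p := 2) (N := 5) (j := 3) Nat.prime_two
    (uw_pow_eq_one.2 (Num.two_eq L hL)) fun h0 => Num.two_ne L hL hs (uw_pow_eq_one.1 h0)
  have h1 : orderOf (a ^ 2) = 2 ^ k := by rw [hsq, orderOf_conj, h]
  have hpos := orderOf_pos a
  have h2 : 2 ∣ orderOf a := by
    have h3 : orderOf (a ^ 2) ∣ orderOf a := orderOf_pow_dvd 2
    exact (dvd_pow_self 2 (by omega)).trans (h1 ▸ h3)
  have h3 : orderOf a = 2 ^ (k + 1) := by
    have h4 := orderOf_pow_of_dvd (x := a) two_ne_zero h2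
    rw [h1] at h4
    rw [pow_succ, h4, Nat.div_mul_cancel h2]
  refine false_of_dvd hord ha (n := 32) ?_ no_32
  rw [h3, show 32 = 2 ^ 5 by norm_num]
  exact pow_dvd_pow 2 (by omega)

/-- order two, characteristic 2 -/
theorem no_two_two [CharP F 2] (hA : (MulAut.conj : ↥(chevF4.group F) →* MulAut ↥(chevF4.group F)).range ≤ A)
    (hord : ∀ a ∈ A, ∃ y : ↥(chevF4.group F), orderOf y = orderOf a) {τ : F ≃+* F} (hτ : orderOf τ = 2) :
    fld chevF4 τ ∉ A := by
  intro hmem
  have hττ : ∀ a : F, τ (τ a) = a := by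
    intro a
    have h1 : τ ^ 2 = 1 := by rw [← hτ, pow_orderOf_eq_one]
    have h2 := congrArg (fun σ : F ≃+* F => σ a) h1
    rw [pow_two] at h2
    exact h2
  -- an element of trace one
  obtain ⟨t, ht⟩ : ∃ t : F, t + τ t = 1 := by
    have h1 : ∃ a : F, τ a ≠ a := by
      by_contra hcon
      push Not at hcon
      have : τ = 1 := RingEquiv.ext hcon
      rw [this, orderOf_one] at hτ
      norm_num at hτ
    obtain ⟨a, ha⟩ := h1
    have hne : a + τ a ≠ 0 := by
      intro h0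
      apply ha
      have h2 : (2 : F) = 0 := by exact_mod_cast CharP.cast_eq_zero F 2
      linear_combination h0 - a * h2
    refine ⟨a / (a + τ a), ?_⟩
    rw [map_div₀, map_add, hττ, add_comm (τ a) a, ← add_div, div_self hne]
  have hsq : (MulAut.conj (uw [(33, t), (27, t), (25, t), (24, t)]) * fld chevF4 τ) ^ 2 =
      MulAut.conj (uw ([(33, t), (27, t), (25, t), (24, t)] ++ [(33, τ t), (27, τ t), (25, τ t), (24, τ t)])) := by
    have h1 : fld chevF4 τ * fld chevF4 τ = 1 := by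
      rw [← pow_two, ← fld_pow, ← hτ, pow_orderOf_eq_one, fld_one]
    have h2 : ∀ x : ↥(chevF4.group F), fld chevF4 τ * MulAut.conj x = MulAut.conj (fld chevF4 τ x) * fld chevF4 τ := by
      intro x
      apply MulEquiv.ext
      intro g
      show fld chevF4 τ (MulAut.conj x g) = MulAut.conj (fld chevF4 τ x) (fld chevF4 τ g)
      rw [MulAut.conj_apply, MulAut.conj_apply, map_mul, map_mul, map_inv]
    rw [pow_two, mul_assoc, ← mul_assoc (fld chevF4 τ), h2, mul_assoc, h1, mul_one, ← map_mul, fld_uw, uw_append]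
    rfl
  refine false_of_sq hord (A.mul_mem (hA ⟨_, rfl⟩) hmem) ?_ ?_ hsq
  · intro q hq
    simp at hq
    rcases hq with rfl | rfl | rfl | rfl | rfl | rfl | rfl | rfl <;> simp
  · have e : ∀ M : Matrix chevF4.Idx chevF4.Idx F, t • M + τ t • M = M := by
      intro M
      rw [← add_smul, ht, one_smul]
    simp only [Num.NN, List.map_append, List.sum_append, List.map_cons, List.map_nil, List.sum_cons, List.sum_nil,
      add_zero, pow_zero, one_smul]
    calc t • Lin.E chevF4 F 33 + (t • Lin.E chevF4 F 27 + (t • Lin.E chevF4 F 25 + t • Lin.E chevF4 F 24)) +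
          (τ t • Lin.E chevF4 F 33 + (τ t • Lin.E chevF4 F 27 + (τ t • Lin.E chevF4 F 25 + τ t • Lin.E chevF4 F 24)))
        = (t • Lin.E chevF4 F 33 + τ t • Lin.E chevF4 F 33) + ((t • Lin.E chevF4 F 27 + τ t • Lin.E chevF4 F 27) +
          ((t • Lin.E chevF4 F 25 + τ t • Lin.E chevF4 F 25) + (t • Lin.E chevF4 F 24 + τ t • Lin.E chevF4 F 24))) := by
          abel
      _ = _ := by rw [e, e, e, e]

end Cfsg.Agent.H351.F4Out.Fld
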