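import Cfsg.Agent.ChevalleyStructure.XColumns
import Cfsg.Agent.ChevStructure.Level

/-!
# Leading terms of unipotent elements (helper351, for S3479)

* `bv`, `toF` : basis vectors (coded by natural numbers) and sparse integer vectors;
* `col1`, `col2` : linear and quadratic part of the columns of `x_r(t)`;
* `E`, `E2` : the matrices; `x_eq` : `x_r(t) = 1 + t E_r + t² E2_r`;
* `raises_prod` : a product of root elements of height one minus `1` minus the sum of the linear parts raises the height by two;
* `pow_ne_one` : the leading term of `(u - 1) ^ m`.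
-/

set_option autoImplicit false

namespace Cfsg.Agent.H351.F4Out.Lin

open Cfsg Cfsg.Lie Cfsg.Agent.ChevalleyStructure.XColumns Cfsg.Agent.ChevStructure.Level
open scoped Matrix

universe u

variable (D : ChevalleyDatum) (F : Type u) [Field F]

/-- the code of a basis vector -/
def code : D.Idx → ℕ
  | Sum.inl i => i
  | Sum.inr v => D.rank + v

/-- the basis vector with a given code -/
def bv (j : ℕ) : D.Idx → F := fun i => if code D i = j then 1 else 0

/-- sparse vectors -/
def toF (L : List (ℕ × ℤ)) : D.Idx → F := (L.map fun q => (q.2 : F) • bv D F q.1).sum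

/-- linear part of the columns -/
def col1 (r j : ℕ) : List (ℕ × ℤ) :=
  if j < D.rank then [(D.rank + r, - D.cartan j r)]
  else if j - D.rank = r then []
  else if j - D.rank = D.neg r then (List.range D.rank).map fun i => (i, (D.coroot.getD r #[]).getD i 0)
  else match D.chainEntry r (j - D.rank) with
    | [] => []
    | q :: _ => [(D.rank + q.1, q.2)]

/-- quadratic part of the columns -/
def col2 (r j : ℕ) : List (ℕ × ℤ) :=
  if j < D.rank then []
  else if j - D.rank = r then []
  else if j - D.rank = D.neg r then [(D.rank + r, -1)]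
  else match D.chainEntry r (j - D.rank) with
    | [] => []
    | [_] => []
    | _ :: q :: _ => [(D.rank + q.1, q.2)]

variable {D F}

theorem toF_nil : toF D F [] = 0 := rfl

theorem toF_cons (q : ℕ × ℤ) (L : List (ℕ × ℤ)) : toF D F (q :: L) = (q.2 : F) • bv D F q.1 + toF D F L := by
  simp [toF]

theorem toF_singleton (j : ℕ) (c : ℤ) : toF D F [(j, c)] = (c : F) • bv D F j := by
  rw [toF_cons, toF_nil, add_zero]

theorem bv_rank_add (v : ℕ) : bv D F (D.rank + v) = ev D F v := by
  funext i
  rcases i with i | w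
  · have : ¬ (i : ℕ) = D.rank + v := by have := i.2; omega
    simp [bv, code, ev, this]
  · by_cases h : (w : ℕ) = v
    · simp [bv, code, ev, h]
    · have : ¬ D.rank + (w : ℕ) = D.rank + v := by omega
      simp [bv, code, ev, h]

theorem bv_lt {j : ℕ} (hj : j < D.rank) : bv D F j = hv D F j := by
  funext i
  rcases i with i | w
  · rfl
  · have : ¬ D.rank + (w : ℕ) = j := by omega
    simp [bv, code, hv, this]

theorem code_lt (i : D.Idx) : code D i < D.rank + D.nroots := by
  rcases i with i | w
  · have := i.2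
    show (i : ℕ) < _
    omega
  · have := w.2
    show D.rank + (w : ℕ) < _
    omega

theorem code_inj {i j : D.Idx} (h : code D i = code D j) : i = j := by
  rcases i with i | w <;> rcases j with j | w'
  · exact congrArg Sum.inl (Fin.ext h)
  · have h1 : (i : ℕ) = D.rank + w' := h
    have := i.2
    omega
  · have h1 : D.rank + (w : ℕ) = j := h
    have := j.2
    omega
  · have h1 : D.rank + (w : ℕ) = D.rank + w' := h
    exact congrArg Sum.inr (Fin.ext (by omega))

theorem bv_code (i : D.Idx) : bv D F (code D i) = Pi.single i 1 := by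
  classical
  funext j
  by_cases h : j = i
  · subst h
    simp [bv]
  · have : ¬ code D j = code D i := fun h' => h (code_inj h')
    simp [bv, this, h]

/-- the checks for one root -/
structure Ok (D : ChevalleyDatum) (r : ℕ) : Prop where
  lt : r < D.nroots
  neg_lt : D.neg r < D.nroots
  neg_ne : D.neg r ≠ r
  nodup : ((row D r).map Prod.fst).Nodup
  chain : ∀ s < D.nroots, (D.chainEntry r s).length ≤ 2

theorem corv_eq (r : ℕ) : corv D F r =
    toF D F ((List.range D.rank).map fun i => (i, (D.coroot.getD r #[]).getD i 0)) := by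
  have key : ∀ (l : List ℕ) (i : D.Idx), l.Nodup →
      toF D F (l.map fun i => (i, (D.coroot.getD r #[]).getD i 0)) i =
        if code D i ∈ l then (((D.coroot.getD r #[]).getD (code D i) 0 : ℤ) : F) else 0 := by
    intro l i hl
    induction l with
    | nil => simp [toF]
    | cons a l ih =>
      rw [List.nodup_cons] at hl
      rw [List.map_cons, toF_cons, Pi.add_apply, ih hl.2, Pi.smul_apply, smul_eq_mul]
      by_cases h : code D i = a
      · subst h
        simp [bv, hl.1]
      · have h1 : ¬ code D i = a := h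
        simp [bv, h1]
  funext i
  rw [key _ i List.nodup_range]
  rcases i with i | w
  · have : (code D (Sum.inl i)) ∈ List.range D.rank := List.mem_range.2 i.2
    rw [if_pos this]
    rfl
  · have : (code D (Sum.inr w)) ∉ List.range D.rank := by
      rw [List.mem_range]
      show ¬ D.rank + (w : ℕ) < D.rank
      omega
    rw [if_neg this]
    rfl

/-- **The columns of `x_r(t)`.** -/
theorem x_mulVec_bv {r j : ℕ} (h : Ok D r) (hj : j < D.rank + D.nroots) (t : F) :
    D.x F r t *ᵥ bv D F j = bv D F j + t • toF D F (col1 D r j) + t ^ 2 • toF D F (col2 D r j) := by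
  by_cases h1 : j < D.rank
  · rw [bv_lt h1, x_mulVec_hv h.lt h1, col1, if_pos h1, col2, if_pos h1, toF_nil, smul_zero, add_zero, toF_singleton,
      bv_rank_add, Int.cast_neg, neg_smul, smul_neg, smul_smul, mul_comm t, sub_eq_add_neg]
  obtain ⟨s, rfl⟩ : ∃ s, j = D.rank + s := ⟨j - D.rank, by omega⟩
  have hs : s < D.nroots := by omega
  have e : D.rank + s - D.rank = s := by omega
  rw [bv_rank_add, col1, if_neg h1, col2, if_neg h1, e]
  by_cases h2 : s = r
  · subst h2
    rw [if_pos rfl, if_pos rfl, toF_nil, smul_zero, smul_zero, add_zero, add_zero, x_mulVec_ev_self hs]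
  rw [if_neg h2, if_neg h2]
  by_cases h3 : s = D.neg r
  · rw [if_pos h3, if_pos h3, h3, x_mulVec_ev_neg h.lt h.neg_lt h.neg_ne, corv_eq, toF_singleton, bv_rank_add, Int.cast_neg,
      Int.cast_one, neg_smul, one_smul, smul_neg, sub_eq_add_neg]
  rw [if_neg h3, if_neg h3, x_mulVec_ev h.lt hs h2 h3 h.nodup]
  have hlen := h.chain s hs
  rcases hc : D.chainEntry r s with _ | ⟨a, _ | ⟨b, _ | ⟨c, l⟩⟩⟩
  · simp [toF_nil]
  · simp [toF_nil, toF_cons, bv_rank_add, smul_smul, mul_comm]
  · simp [toF_nil, toF_cons, bv_rank_add, smul_smul, mul_comm, add_assoc]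
  · rw [hc] at hlen
    simp at hlen

variable (D F) in
/-- the linear part -/
def E (r : ℕ) : Matrix D.Idx D.Idx F := Matrix.of fun i k => toF D F (col1 D r (code D k)) i

variable (D F) in
/-- the quadratic part -/
def E2 (r : ℕ) : Matrix D.Idx D.Idx F := Matrix.of fun i k => toF D F (col2 D r (code D k)) i

theorem mulVec_single' {ι : Type*} [Fintype ι] [DecidableEq ι] (M : Matrix ι ι F) (k i : ι) :
    (M *ᵥ Pi.single k 1) i = M i k := by
  rw [Matrix.mulVec_single_one, Matrix.col_apply]

theorem exists_code {j : ℕ} (hj : j < D.rank + D.nroots) : ∃ k : D.Idx, code D k = j := by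
  by_cases h : j < D.rank
  · exact ⟨Sum.inl ⟨j, h⟩, rfl⟩
  · refine ⟨Sum.inr ⟨j - D.rank, by omega⟩, ?_⟩
    show D.rank + (j - D.rank) = j
    omega

theorem E_mulVec_bv {j : ℕ} (r : ℕ) (hj : j < D.rank + D.nroots) : E D F r *ᵥ bv D F j = toF D F (col1 D r j) := by
  classical
  obtain ⟨k, rfl⟩ := exists_code hj
  funext i
  rw [bv_code, mulVec_single']
  rfl

theorem x_eq {r : ℕ} (h : Ok D r) (t : F) : D.x F r t = 1 + t • E D F r + t ^ 2 • E2 D F r := by
  classical
  ext i k
  rw [← mulVec_single' (D.x F r t) k i, ← bv_code, x_mulVec_bv h (code_lt k) t]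
  rw [Matrix.add_apply, Matrix.add_apply, Matrix.smul_apply, Matrix.smul_apply, Pi.add_apply, Pi.add_apply, Pi.smul_apply,
    Pi.smul_apply]
  congr 2
  rw [bv_code, Matrix.one_apply, Pi.single_apply]

/-! ### Heights -/

/-- the checks for one root and a height function on the codes -/
structure Ht (D : ChevalleyDatum) (ht : ℕ → ℕ) (r : ℕ) : Prop extends Ok D r where
  one : ∀ j < D.rank + D.nroots, ∀ q ∈ col1 D r j, ht q.1 = ht j + 1
  two : ∀ j < D.rank + D.nroots, ∀ q ∈ col2 D r j, ht q.1 = ht j + 2

theorem exists_of_toF_ne {L : List (ℕ × ℤ)} {i : D.Idx} (h : toF D F L i ≠ 0) : ∃ q ∈ L, q.1 = code D i := by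
  induction L with
  | nil => exact absurd rfl h
  | cons q L ih =>
    rw [toF_cons, Pi.add_apply, Pi.smul_apply] at h
    by_cases h1 : q.1 = code D i
    · exact ⟨q, by simp, h1⟩
    · have h2 : bv D F q.1 i = 0 := by
        have : ¬ code D i = q.1 := fun h' => h1 h'.symm
        simp [bv, this]
      rw [h2, smul_zero, zero_add] at h
      obtain ⟨q', hq', h3⟩ := ih h
      exact ⟨q', by simp [hq'], h3⟩

theorem raises_E {ht : ℕ → ℕ} {r : ℕ} (h : Ht D ht r) : Raises (fun i => ht (code D i)) 1 (E D F r) := by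
  intro i k hne
  obtain ⟨q, hq, h1⟩ := exists_of_toF_ne (D := D) (F := F) (L := col1 D r (code D k)) (i := i) hne
  have := h.one _ (code_lt k) q hq
  show ht (code D k) + 1 ≤ ht (code D i)
  rw [← h1, this]

theorem raises_E2 {ht : ℕ → ℕ} {r : ℕ} (h : Ht D ht r) : Raises (fun i => ht (code D i)) 2 (E2 D F r) := by
  intro i k hne
  obtain ⟨q, hq, h1⟩ := exists_of_toF_ne (D := D) (F := F) (L := col2 D r (code D k)) (i := i) hne
  have := h.two _ (code_lt k) q hq
  show ht (code D k) + 2 ≤ ht (code D i)
  rw [← h1, this]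

theorem Raises.smul' {ι : Type*} {ℓ : ι → ℕ} {k : ℕ} {M : Matrix ι ι F} (hM : Raises ℓ k M) (c : F) : Raises ℓ k (c • M) := by
  intro i j h
  apply hM
  intro h0
  apply h
  rw [Matrix.smul_apply, h0, smul_zero]

/-- **Products of root elements of height one.** -/
theorem raises_prod {ht : ℕ → ℕ} (L : List (ℕ × F)) (hL : ∀ q ∈ L, Ht D ht q.1) :
    Raises (fun i => ht (code D i)) 1 ((L.map fun q => D.x F q.1 q.2).prod - 1) ∧
    Raises (fun i => ht (code D i)) 2
      ((L.map fun q => D.x F q.1 q.2).prod - 1 - (L.map fun q => q.2 • E D F q.1).sum) := by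
  classical
  induction L with
  | nil =>
    constructor
    · simpa using raises_zero 1
    · simpa using raises_zero 2
  | cons q L ih =>
    obtain ⟨ih1, ih2⟩ := ih fun q' hq' => hL q' (List.mem_cons_of_mem _ hq')
    have hq := hL q (by simp)
    rw [List.map_cons, List.prod_cons, List.map_cons, List.sum_cons, x_eq hq.toOk]
    set P := (L.map fun q => D.x F q.1 q.2).prod
    set S := (L.map fun q => q.2 • E D F q.1).sum
    have h0 : Raises (fun i => ht (code D i)) 0 P := by
      have := (Raises.mono ih1 (Nat.zero_le 1)).add raises_one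
      rwa [sub_add_cancel] at this
    have hE := Raises.smul' (raises_E (F := F) hq) q.2
    have hE2 := Raises.smul' (raises_E2 (F := F) hq) (q.2 ^ 2)
    constructor
    · have e : (1 + q.2 • E D F q.1 + q.2 ^ 2 • E2 D F q.1) * P - 1 =
          (P - 1) + q.2 • E D F q.1 * P + q.2 ^ 2 • E2 D F q.1 * P := by
        rw [add_mul, add_mul, one_mul]
        abel
      rw [e]
      exact (ih1.add (hE.mul h0)).add ((hE2.mul h0).mono (by norm_num))
    · have e : (1 + q.2 • E D F q.1 + q.2 ^ 2 • E2 D F q.1) * P - 1 - (q.2 • E D F q.1 + S) =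
          (P - 1 - S) + q.2 • E D F q.1 * (P - 1) + q.2 ^ 2 • E2 D F q.1 * P := by
        rw [add_mul, add_mul, one_mul, mul_sub, mul_one]
        abel
      rw [e]
      exact (ih2.add (hE.mul ih1)).add (hE2.mul h0)

/-- the leading term of a power -/
theorem raises_pow {ι : Type*} [Fintype ι] [DecidableEq ι] {ℓ : ι → ℕ} {A N : Matrix ι ι F} (hN : Raises ℓ 1 N)
    (hA : Raises ℓ 2 (A - N)) (m : ℕ) : Raises ℓ (m + 1) (A ^ m - N ^ m) := by
  have hA1 : Raises ℓ 1 A := by
    have := (Raises.mono hA (by norm_num : 1 ≤ 2)).add hN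
    rwa [sub_add_cancel] at this
  induction m with
  | zero => simpa using raises_zero 1
  | succ m ih =>
    have e : A ^ (m + 1) - N ^ (m + 1) = A ^ m * (A - N) + (A ^ m - N ^ m) * N := by
      rw [pow_succ, pow_succ, mul_sub, sub_mul]
      abel
    rw [e]
    refine Raises.add ((Raises.mul (hA1.pow m) hA).mono (by omega)) (Raises.mul ih hN)

/-- **The leading term of `(u - 1) ^ m`**, `m` a power of the characteristic. -/
theorem entry_eq_zero {p n : ℕ} [Fact p.Prime] [CharP F p] {ι : Type*} [Fintype ι] [DecidableEq ι] [Nonempty ι]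
    {ℓ : ι → ℕ} {u N : Matrix ι ι F} (hN : Raises ℓ 1 N) (hA : Raises ℓ 2 (u - 1 - N)) (hu : u ^ p ^ n = 1) {i k : ι}
    (hik : ℓ i = ℓ k + p ^ n) : (N ^ p ^ n) i k = 0 := by
  have h1 := raises_pow hN hA (p ^ n)
  have h2 : (u - 1) ^ p ^ n = 0 := by
    rw [sub_pow_char_pow_of_commute _ _ (Commute.one_right u), hu, one_pow, sub_self]
  rw [h2, zero_sub] at h1
  by_contra h
  have := h1 i k (by rw [Matrix.neg_apply]; exact neg_ne_zero.2 h)
  omega

end Cfsg.Agent.H351.F4Out.Lin
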