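import Cfsg.Agent.H351.F4Out.Lin
import Cfsg.Prelude.Def_ChevF4

/-!
# Leading terms for `F₄` (helper351, for S3479)

* `step`, `pow_apply` : entries of powers of `∑ c ^ δ E_r` by sparse vectors;
* `not_pow_two` : `u ^ 8 ≠ 1` in characteristic 2 if the simple components of `u` are 1;
* `not_pow_seven` : the regular unipotent elements of the subsystem `B₄` in characteristic 7;
* `not_pow_eleven` : characteristic 11.
-/

set_option autoImplicit false

namespace Cfsg.Agent.H351.F4Out.Num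

open Cfsg Cfsg.Lie Cfsg.Agent.ChevalleyStructure.XColumns Cfsg.Agent.ChevStructure.Level Cfsg.Agent.H351.F4Out.Lin
open scoped Matrix

universe u

variable (D : ChevalleyDatum) {F : Type u} [Field F]

/-- one step -/
def step (R : List (ℕ × ℕ)) (v : List (ℕ × ℤ)) : List (ℕ × ℤ) :=
  v.flatMap fun a => R.flatMap fun q => (col1 D q.1 a.1).map fun b => (b.1, a.2 * b.2)

/-- several steps -/
def steps (R : List (ℕ × ℕ)) : ℕ → List (ℕ × ℤ) → List (ℕ × ℤ)
  | 0, v => v
  | m + 1, v => step D R (steps R m v)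

/-- the coefficient at a code -/
def coef (v : List (ℕ × ℤ)) (j : ℕ) : ℤ := ((v.filter fun a => a.1 = j).map Prod.snd).sum

/-- weighted sparse vectors -/
def toW (c : F) (d : ℕ → ℕ) (v : List (ℕ × ℤ)) : D.Idx → F := (v.map fun a => ((a.2 : F) * c ^ d a.1) • bv D F a.1).sum

/-- the leading term -/
def NN (c : F) (R : List (ℕ × ℕ)) : Matrix D.Idx D.Idx F := (R.map fun q => c ^ q.2 • E D F q.1).sum

variable {D}

theorem toW_nil (c : F) (d : ℕ → ℕ) : toW D c d [] = 0 := rfl

theorem toW_cons (c : F) (d : ℕ → ℕ) (a : ℕ × ℤ) (v : List (ℕ × ℤ)) :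
    toW D c d (a :: v) = ((a.2 : F) * c ^ d a.1) • bv D F a.1 + toW D c d v := by
  simp [toW]

theorem toW_append (c : F) (d : ℕ → ℕ) (v w : List (ℕ × ℤ)) : toW D c d (v ++ w) = toW D c d v + toW D c d w := by
  simp [toW]

theorem toW_col (c : F) (d : ℕ → ℕ) (a : ℤ) (k δ : ℕ) (L : List (ℕ × ℤ)) (h : ∀ b ∈ L, d b.1 = k + δ) :
    toW D c d (L.map fun b => (b.1, a * b.2)) = ((a : F) * c ^ k * c ^ δ) • toF D F L := by
  induction L with
  | nil => simp [toW, toF]
  | cons b L ih =>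
    rw [List.map_cons, toW_cons, ih fun b' hb' => h b' (List.mem_cons_of_mem _ hb'), toF_cons, smul_add, smul_smul,
      h b (by simp)]
    congr 2
    push_cast
    ring

/-- the weights are compatible -/
def Wt (D : ChevalleyDatum) (d : ℕ → ℕ) (R : List (ℕ × ℕ)) : Prop :=
  ∀ j < D.rank + D.nroots, ∀ q ∈ R, ∀ b ∈ col1 D q.1 j, d b.1 = d j + q.2

theorem NN_mulVec_bv {c : F} {d : ℕ → ℕ} {R : List (ℕ × ℕ)} (hW : Wt D d R) {j : ℕ} (hj : j < D.rank + D.nroots) (a : ℤ) :
    NN D c R *ᵥ (((a : F) * c ^ d j) • bv D F j) = toW D c d (R.flatMap fun q => (col1 D q.1 j).map fun b => (b.1, a * b.2)) := by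
  have key : ∀ R' : List (ℕ × ℕ), (∀ q ∈ R', q ∈ R) →
      NN D c R' *ᵥ (((a : F) * c ^ d j) • bv D F j) =
        toW D c d (R'.flatMap fun q => (col1 D q.1 j).map fun b => (b.1, a * b.2)) := by
    intro R' hR'
    induction R' with
    | nil => simp [NN, toW]
    | cons q R' ih =>
      have h1 : NN D c (q :: R') = c ^ q.2 • E D F q.1 + NN D c R' := by simp [NN]
      rw [h1, Matrix.add_mulVec, ih fun q' hq' => hR' q' (List.mem_cons_of_mem _ hq'), List.flatMap_cons, toW_append]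
      congr 1
      rw [toW_col c d a (d j) q.2 _ (fun b hb => hW j hj q (hR' q (by simp)) b hb), Matrix.smul_mulVec, Matrix.mulVec_smul,
        E_mulVec_bv _ hj, smul_smul]
      congr 1
      ring
  exact key R fun _ h => h

theorem NN_mulVec {c : F} {d : ℕ → ℕ} {R : List (ℕ × ℕ)} (hW : Wt D d R) {v : List (ℕ × ℤ)}
    (hv : ∀ a ∈ v, a.1 < D.rank + D.nroots) : NN D c R *ᵥ toW D c d v = toW D c d (step D R v) := by
  induction v with
  | nil => simp [toW, step]
  | cons a v ih =>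
    have h1 : step D R (a :: v) = (R.flatMap fun q => (col1 D q.1 a.1).map fun b => (b.1, a.2 * b.2)) ++ step D R v := by
      simp [step]
    rw [toW_cons, Matrix.mulVec_add, ih fun a' ha' => hv a' (List.mem_cons_of_mem _ ha'), h1, toW_append,
      NN_mulVec_bv hW (hv a (by simp))]

/-- the codes stay in range -/
def Rg (D : ChevalleyDatum) (R : List (ℕ × ℕ)) : Prop :=
  ∀ j < D.rank + D.nroots, ∀ q ∈ R, ∀ b ∈ col1 D q.1 j, b.1 < D.rank + D.nroots

theorem step_range {R : List (ℕ × ℕ)} (hR : Rg D R) {v : List (ℕ × ℤ)} (hv : ∀ a ∈ v, a.1 < D.rank + D.nroots) :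
    ∀ a ∈ step D R v, a.1 < D.rank + D.nroots := by
  intro a ha
  simp only [step, List.mem_flatMap, List.mem_map] at ha
  obtain ⟨a', ha', q, hq, b, hb, rfl⟩ := ha
  exact hR a'.1 (hv a' ha') q hq b hb

theorem steps_range {R : List (ℕ × ℕ)} (hR : Rg D R) {v : List (ℕ × ℤ)} (hv : ∀ a ∈ v, a.1 < D.rank + D.nroots) (m : ℕ) :
    ∀ a ∈ steps D R m v, a.1 < D.rank + D.nroots := by
  induction m with
  | zero => exact hv
  | succ m ih => exact step_range hR ih

theorem NN_pow_mulVec {c : F} {d : ℕ → ℕ} {R : List (ℕ × ℕ)} (hW : Wt D d R) (hR : Rg D R) {v : List (ℕ × ℤ)}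
    (hv : ∀ a ∈ v, a.1 < D.rank + D.nroots) (m : ℕ) : NN D c R ^ m *ᵥ toW D c d v = toW D c d (steps D R m v) := by
  classical
  induction m with
  | zero => simp [steps]
  | succ m ih => rw [pow_succ', ← Matrix.mulVec_mulVec, ih, NN_mulVec hW (steps_range hR hv m)]; rfl

theorem toW_apply (c : F) (d : ℕ → ℕ) (v : List (ℕ × ℤ)) (i : D.Idx) :
    toW D c d v i = (coef v (code D i) : F) * c ^ d (code D i) := by
  induction v with
  | nil => simp [toW, coef]
  | cons a v ih =>
    rw [toW_cons, Pi.add_apply, ih, Pi.smul_apply, smul_eq_mul]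
    by_cases h : a.1 = code D i
    · have h1 : bv D F a.1 i = 1 := by simp [bv, h]
      have h2 : coef (a :: v) (code D i) = a.2 + coef v (code D i) := by simp [coef, h]
      rw [h1, h2, h]
      push_cast
      ring
    · have h1 : bv D F a.1 i = 0 := by
        have : ¬ code D i = a.1 := fun h' => h h'.symm
        simp [bv, this]
      have h2 : coef (a :: v) (code D i) = coef v (code D i) := by simp [coef, h]
      rw [h1, h2, mul_zero, zero_add]

/-- **Entries of powers.** -/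
theorem NN_pow_apply {c : F} {d : ℕ → ℕ} {R : List (ℕ × ℕ)} (hW : Wt D d R) (hR : Rg D R) (m : ℕ) (i k : D.Idx) :
    (NN D c R ^ m) i k * c ^ d (code D k) = (coef (steps D R m [(code D k, 1)]) (code D i) : F) * c ^ d (code D i) := by
  classical
  rw [← toW_apply, ← NN_pow_mulVec hW hR (by intro a ha; simp only [List.mem_singleton] at ha; rw [ha]; exact code_lt k) m]
  have h1 : toW D c d [(code D k, 1)] = c ^ d (code D k) • Pi.single k 1 := by
    rw [toW_cons, toW_nil, add_zero, bv_code]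
    simp
  rw [h1, Matrix.mulVec_smul, Pi.smul_apply, mulVec_single', smul_eq_mul, mul_comm]

theorem NN_pow_ne_zero {c : F} (hc : c ≠ 0) {d : ℕ → ℕ} {R : List (ℕ × ℕ)} (hW : Wt D d R) (hR : Rg D R) {m : ℕ} {i k : D.Idx}
    {K : ℤ} (hK : coef (steps D R m [(code D k, 1)]) (code D i) = K) (hK0 : (K : F) ≠ 0) : (NN D c R ^ m) i k ≠ 0 := by
  intro h
  have h1 := NN_pow_apply (c := c) hW hR m i k
  rw [h, zero_mul, hK] at h1
  exact mul_ne_zero hK0 (pow_ne_zero _ hc) h1.symm

/-! ### The tables of `F₄` -/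

/-- the heights (shifted by 11) of the basis vectors -/
def ht4 (j : ℕ) : ℕ := [11, 11, 11, 11, 0, 1, 2, 3, 4, 5, 6, 4, 5, 6, 7, 7, 8, 9, 10, 6, 7, 8, 8, 9, 10, 9, 10, 10, 12, 12, 13,
  12, 13, 14, 14, 15, 16, 12, 13, 14, 15, 15, 16, 17, 18, 16, 17, 18, 19, 20, 21, 22].getD j 0

/-- the heights for the subsystem `B₄` (`p₁` has height `-1`, shifted by 7) -/
def htB (j : ℕ) : ℕ := [7, 7, 7, 7, 0, 1, 2, 3, 4, 5, 6, 2, 3, 4, 5, 5, 6, 7, 8, 2, 3, 4, 4, 5, 6, 5, 6, 6, 8, 8, 9, 8, 9, 10, 10, 11,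
  12, 6, 7, 8, 9, 9, 10, 11, 12, 8, 9, 10, 11, 12, 13, 14].getD j 0

/-- the coefficient of `β = 2 p₁ + 2 p₂ + p₃` (shifted by one, rounded up) -/
def dB (j : ℕ) : ℕ := [1, 1, 1, 1, 0, 0, 0, 0, 0, 0, 0, 0, 0, 0, 0, 0, 0, 0, 0, 1, 1, 1, 1, 1, 1, 1, 1, 1, 1, 1, 1, 1, 1, 1, 1, 1,
  1, 1, 1, 1, 1, 1, 1, 1, 1, 2, 2, 2, 2, 2, 2, 2].getD j 0

/-- the checks as a boolean -/
def okB (D : ChevalleyDatum) (ht : ℕ → ℕ) (r : ℕ) : Bool :=
  decide (r < D.nroots) && decide (D.neg r < D.nroots) && decide (D.neg r ≠ r) &&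
  decide ((row D r).map Prod.fst).Nodup &&
  (List.range D.nroots).all (fun s => decide ((D.chainEntry r s).length ≤ 2)) &&
  (List.range (D.rank + D.nroots)).all (fun j => (col1 D r j).all fun q => decide (ht q.1 = ht j + 1)) &&
  (List.range (D.rank + D.nroots)).all (fun j => (col2 D r j).all fun q => decide (ht q.1 = ht j + 2))

theorem Ht.of_okB {D : ChevalleyDatum} {ht : ℕ → ℕ} {r : ℕ} (h : okB D ht r = true) : Ht D ht r := by
  simp only [okB, Bool.and_eq_true, decide_eq_true_eq, List.all_eq_true, List.mem_range] at h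
  obtain ⟨⟨⟨⟨⟨⟨h1, h2⟩, h3⟩, h4⟩, h5⟩, h6⟩, h7⟩ := h
  exact { lt := h1, neg_lt := h2, neg_ne := h3, nodup := h4, chain := h5, one := h6, two := h7 }

/-- weights and ranges as a boolean -/
def wtB (D : ChevalleyDatum) (d : ℕ → ℕ) (R : List (ℕ × ℕ)) : Bool :=
  (List.range (D.rank + D.nroots)).all fun j => R.all fun q => (col1 D q.1 j).all fun b =>
    decide (d b.1 = d j + q.2) && decide (b.1 < D.rank + D.nroots)

theorem wtB_wt {D : ChevalleyDatum} {d : ℕ → ℕ} {R : List (ℕ × ℕ)} (h : wtB D d R = true) : Wt D d R := by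
  intro j hj q hq b hb
  simp only [wtB, List.all_eq_true, List.mem_range, Bool.and_eq_true, decide_eq_true_eq] at h
  exact (h j hj q hq b hb).1

theorem wtB_rg {D : ChevalleyDatum} {d : ℕ → ℕ} {R : List (ℕ × ℕ)} (h : wtB D d R = true) : Rg D R := by
  intro j hj q hq b hb
  simp only [wtB, List.all_eq_true, List.mem_range, Bool.and_eq_true, decide_eq_true_eq] at h
  exact (h j hj q hq b hb).2

theorem ht_33 : Ht chevF4 ht4 33 := Ht.of_okB (by decide +kernel)
theorem ht_27 : Ht chevF4 ht4 27 := Ht.of_okB (by decide +kernel)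
theorem ht_25 : Ht chevF4 ht4 25 := Ht.of_okB (by decide +kernel)
theorem ht_24 : Ht chevF4 ht4 24 := Ht.of_okB (by decide +kernel)

theorem htB_41 : Ht chevF4 htB 41 := Ht.of_okB (by decide +kernel)
theorem htB_27 : Ht chevF4 htB 27 := Ht.of_okB (by decide +kernel)
theorem htB_25 : Ht chevF4 htB 25 := Ht.of_okB (by decide +kernel)
theorem htB_24 : Ht chevF4 htB 24 := Ht.of_okB (by decide +kernel)

theorem wt_simple : wtB chevF4 (fun _ => 0) [(33, 0), (27, 0), (25, 0), (24, 0)] = true := by decide +kernel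
theorem wt_B : wtB chevF4 dB [(41, 1), (27, 0), (25, 0), (24, 0)] = true := by decide +kernel

theorem coef_two : coef (steps chevF4 [(33, 0), (27, 0), (25, 0), (24, 0)] 8 [(4, 1)]) 22 = -21 := by decide +kernel
theorem coef_eleven : coef (steps chevF4 [(33, 0), (27, 0), (25, 0), (24, 0)] 11 [(3, 1)]) 51 = 252 := by decide +kernel
theorem coef_seven : coef (steps chevF4 [(41, 1), (27, 0), (25, 0), (24, 0)] 7 [(15, 1)]) 44 = 5 := by decide +kernel

/-! ### Products of root elements -/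

section General

variable {D : ChevalleyDatum} {p : ℕ} [Fact p.Prime] [CharP F p]

theorem nonempty_idx (h : 0 < D.rank) : Nonempty D.Idx := ⟨Sum.inl ⟨0, h⟩⟩

/-- the order is a power of the characteristic -/
theorem prod_pow_eq_one {ht : ℕ → ℕ} (L : List (ℕ × F)) (hL : ∀ q ∈ L, Ht D ht q.1) {B n : ℕ}
    (hB : ∀ i : D.Idx, ht (code D i) < B) (hn : B ≤ p ^ n) (h0 : 0 < D.rank) :
    (L.map fun q => D.x F q.1 q.2).prod ^ p ^ n = 1 := by
  have := nonempty_idx h0
  have h1 := (raises_prod (F := F) L hL).1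
  have h2 := (h1.pow (p ^ n)).eq_zero hB (by omega)
  rw [sub_pow_char_pow_of_commute _ _ (Commute.one_right _), one_pow, sub_eq_zero] at h2
  exact h2

/-- **The order is large.** -/
theorem prod_pow_ne_one {ht : ℕ → ℕ} (L : List (ℕ × F)) (hL : ∀ q ∈ L, Ht D ht q.1) {n : ℕ} (h0 : 0 < D.rank)
    {c : F} (hc : c ≠ 0) {d : ℕ → ℕ} {R : List (ℕ × ℕ)} (hR : ∀ q ∈ R, Ht D ht q.1) (hW : wtB D d R = true)
    (hNN : (L.map fun q => q.2 • E D F q.1).sum = NN D c R) {i k : D.Idx} (hik : ht (code D i) = ht (code D k) + p ^ n)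
    {K : ℤ} (hK : coef (steps D R (p ^ n) [(code D k, 1)]) (code D i) = K) (hK0 : (K : F) ≠ 0) :
    (L.map fun q => D.x F q.1 q.2).prod ^ p ^ n ≠ 1 := by
  intro h
  have := nonempty_idx h0
  have h1 := (raises_prod (F := F) L hL).2
  rw [hNN] at h1
  have h2 : Raises (fun i => ht (code D i)) 1 (NN D c R) := by
    rw [NN]
    clear hW hNN h1 hK
    induction R with
    | nil => simpa using raises_zero 1
    | cons q R ih =>
      rw [List.map_cons, List.sum_cons]
      exact (Raises.smul' (raises_E (hR q (by simp))) _).add (ih fun q' hq' => hR q' (List.mem_cons_of_mem _ hq'))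
  exact NN_pow_ne_zero hc (wtB_wt hW) (wtB_rg hW) hK hK0 (entry_eq_zero h2 h1 h hik)

end General

/-! ### `F₄` -/

/-- the index of a code -/
def ix (j : ℕ) (h : j < 48) : chevF4.Idx := Sum.inr ⟨j, h⟩

theorem ht4_lt (i : chevF4.Idx) : ht4 (code chevF4 i) < 23 := by
  have h : ∀ j < 52, ht4 j < 23 := by decide
  exact h _ (code_lt i)

theorem htB_lt (i : chevF4.Idx) : htB (code chevF4 i) < 15 := by
  have h : ∀ j < 52, htB j < 15 := by decide
  exact h _ (code_lt i)

/-- **Characteristic 2**: the simple components are one. -/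
theorem two_ne [CharP F 2] (L : List (ℕ × F)) (hL : ∀ q ∈ L, q.1 = 33 ∨ q.1 = 27 ∨ q.1 = 25 ∨ q.1 = 24)
    (hs : (L.map fun q => q.2 • E chevF4 F q.1).sum = NN chevF4 (1 : F) [(33, 0), (27, 0), (25, 0), (24, 0)]) :
    (L.map fun q => chevF4.x F q.1 q.2).prod ^ 8 ≠ 1 := by
  have hf : Fact (Nat.Prime 2) := ⟨Nat.prime_two⟩
  have key : ∀ r : ℕ, (r = 33 ∨ r = 27 ∨ r = 25 ∨ r = 24) → Ht chevF4 ht4 r := by
    rintro r (rfl | rfl | rfl | rfl)
    · exact ht_33
    · exact ht_27
    · exact ht_25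
    · exact ht_24
  have h := prod_pow_ne_one (D := chevF4) (p := 2) (n := 3) (F := F) (ht := ht4) L (fun q hq => key _ (hL q hq))
    (by decide) one_ne_zero (d := fun _ => 0) (R := [(33, 0), (27, 0), (25, 0), (24, 0)])
    (fun q hq => key _ (by simp at hq; rcases hq with rfl | rfl | rfl | rfl <;> simp)) wt_simple hs
    (i := ix 18 (by norm_num)) (k := ix 0 (by norm_num)) rfl (K := -21) coef_two (by
      have h1 : (21 : F) = 1 := by
        have h2 : (2 : F) = 0 := by exact_mod_cast CharP.cast_eq_zero F 2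
        linear_combination 10 * h2
      push_cast
      rw [h1]
      exact neg_ne_zero.2 one_ne_zero)
  exact h

theorem two_eq [CharP F 2] (L : List (ℕ × F)) (hL : ∀ q ∈ L, q.1 = 33 ∨ q.1 = 27 ∨ q.1 = 25 ∨ q.1 = 24) :
    (L.map fun q => chevF4.x F q.1 q.2).prod ^ 2 ^ 5 = 1 := by
  have hf : Fact (Nat.Prime 2) := ⟨Nat.prime_two⟩
  refine prod_pow_eq_one (ht := ht4) L (fun q hq => ?_) ht4_lt (by norm_num) (by decide)
  rcases hL q hq with h | h | h | h <;> rw [h]
  · exact ht_33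
  · exact ht_27
  · exact ht_25
  · exact ht_24

/-- **Characteristic 11**. -/
theorem eleven_ne [CharP F 11] : ([(33, 1), (27, 1), (25, 1), (24, 1)].map fun q : ℕ × F => chevF4.x F q.1 q.2).prod ^ 11 ≠ 1 := by
  have hf : Fact (Nat.Prime 11) := ⟨by norm_num⟩
  have key : ∀ r : ℕ, (r = 33 ∨ r = 27 ∨ r = 25 ∨ r = 24) → Ht chevF4 ht4 r := by
    rintro r (rfl | rfl | rfl | rfl)
    · exact ht_33
    · exact ht_27
    · exact ht_25
    · exact ht_24
  have h := prod_pow_ne_one (D := chevF4) (p := 11) (n := 1) (F := F) (ht := ht4) [(33, 1), (27, 1), (25, 1), (24, 1)]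
    (fun q hq => key _ (by simp at hq; rcases hq with rfl | rfl | rfl | rfl <;> simp))
    (by decide) one_ne_zero (d := fun _ => 0) (R := [(33, 0), (27, 0), (25, 0), (24, 0)])
    (fun q hq => key _ (by simp at hq; rcases hq with rfl | rfl | rfl | rfl <;> simp)) wt_simple (by simp [NN])
    (i := ix 47 (by norm_num)) (k := (Sum.inl (3 : Fin 4) : chevF4.Idx)) rfl (K := 252) coef_eleven (by
      have h2 : (11 : F) = 0 := by exact_mod_cast CharP.cast_eq_zero F 11
      have h1 : ((252 : ℤ) : F) = -1 := by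
        push_cast
        linear_combination 23 * h2
      rw [h1]
      exact neg_ne_zero.2 one_ne_zero)
  simpa using h

/-- **Characteristic 7**: regular unipotent elements of the subsystem `B₄`. -/
theorem seven_ne [CharP F 7] {c : F} (hc : c ≠ 0) :
    ([(41, c), (27, 1), (25, 1), (24, 1)].map fun q : ℕ × F => chevF4.x F q.1 q.2).prod ^ 7 ≠ 1 := by
  have hf : Fact (Nat.Prime 7) := ⟨by norm_num⟩
  have key : ∀ r : ℕ, (r = 41 ∨ r = 27 ∨ r = 25 ∨ r = 24) → Ht chevF4 htB r := by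
    rintro r (rfl | rfl | rfl | rfl)
    · exact htB_41
    · exact htB_27
    · exact htB_25
    · exact htB_24
  have h := prod_pow_ne_one (D := chevF4) (p := 7) (n := 1) (F := F) (ht := htB) [(41, c), (27, 1), (25, 1), (24, 1)]
    (fun q hq => key _ (by simp at hq; rcases hq with rfl | rfl | rfl | rfl <;> simp))
    (by decide) hc (d := dB) (R := [(41, 1), (27, 0), (25, 0), (24, 0)])
    (fun q hq => key _ (by simp at hq; rcases hq with rfl | rfl | rfl | rfl <;> simp)) wt_B (by simp [NN])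
    (i := ix 40 (by norm_num)) (k := ix 11 (by norm_num)) rfl (K := 5) coef_seven (by
      have h2 : (7 : F) = 0 := by exact_mod_cast CharP.cast_eq_zero F 7
      intro h0
      have h1 : ((5 : ℤ) : F) = 5 := by push_cast; rfl
      rw [h1] at h0
      exact one_ne_zero (α := F) (by linear_combination 3 * h0 - 2 * h2))
  simpa using h

theorem seven_eq [CharP F 7] (c : F) :
    ([(41, c), (27, 1), (25, 1), (24, 1)].map fun q : ℕ × F => chevF4.x F q.1 q.2).prod ^ 7 ^ 2 = 1 := by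
  have hf : Fact (Nat.Prime 7) := ⟨by norm_num⟩
  refine prod_pow_eq_one (ht := htB) _ (fun q hq => ?_) htB_lt (by norm_num) (by decide)
  simp at hq
  rcases hq with rfl | rfl | rfl | rfl
  · exact htB_41
  · exact htB_27
  · exact htB_25
  · exact htB_24

/-- regular unipotent elements: the order is a power of `p` -/
theorem reg_eq {p : ℕ} [Fact p.Prime] [CharP F p] {n : ℕ} (hn : 23 ≤ p ^ n) :
    ([(33, 1), (27, 1), (25, 1), (24, 1)].map fun q : ℕ × F => chevF4.x F q.1 q.2).prod ^ p ^ n = 1 := by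
  refine prod_pow_eq_one (ht := ht4) _ (fun q hq => ?_) ht4_lt hn (by decide)
  simp at hq
  rcases hq with rfl | rfl | rfl | rfl
  · exact ht_33
  · exact ht_27
  · exact ht_25
  · exact ht_24

end Cfsg.Agent.H351.F4Out.Num
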