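import Cfsg.Agent.H351.F4Out.Fld

/-!
# Field automorphisms of order two in characteristic 7 (helper351, for S3479)

`q = q₀²`, `s τ(s) = -1`, `h` in the torus with `p₁(h) = s`, `p₂(h) = p₃(h) = p₄(h) = 1`; `(h τ)² = z` is the involution
with centralizer `B₄`, and `h τ` commutes with a regular unipotent element of order 49 of `B₄`: order 196.
-/

set_option autoImplicit false
set_option linter.unusedSectionVars false

namespace Cfsg.Agent.H351.F4Out.Seven

open Cfsg Cfsg.Lie Cfsg.Agent.CpAut.RgdUntw Cfsg.Agent.ChevalleyStructure.Elts Cfsg.Agent.H70.ChevFix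
  Cfsg.Agent.H69.OutGF Cfsg.Agent.H351.F4Out.Elt Cfsg.Agent.H70.OutCount Cfsg.Agent.H70.ChevDiag
  Cfsg.Agent.H351.F4Out.Fld Cfsg.Agent.H523.Chev

universe u

variable {F : Type u} [Field F] [Fintype F]

/-- `s τ(s) = -1` -/
theorem exists_norm [CharP F 7] {τ : F ≃+* F} (hττ : ∀ a : F, τ (τ a) = a) {q₀ : ℕ} (hq : Nat.card F = q₀ ^ 2) :
    ∃ s : F, s * τ s = -1 := by
  have h1 : IsSquare (-1 : F) := by
    rw [FiniteField.isSquare_neg_one_iff, ← Nat.card_eq_fintype_card, hq, Nat.pow_mod]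
    have : q₀ % 4 < 4 := Nat.mod_lt _ (by norm_num)
    interval_cases (q₀ % 4) <;> norm_num
  obtain ⟨i, hi⟩ := h1
  have h2 : (τ i) * (τ i) = -1 := by
    rw [← map_mul, ← hi, map_neg, map_one]
  have h3 : (τ i - i) * (τ i + i) = 0 := by linear_combination h2 - (-1) * hi
  rcases mul_eq_zero.1 h3 with h | h
  · refine ⟨i, ?_⟩
    have : τ i = i := by linear_combination h
    rw [this, ← hi]
  · refine ⟨3 + 2 * i, ?_⟩
    have h4 : τ i = -i := by linear_combination h
    have h7 : (7 : F) = 0 := by exact_mod_cast CharP.cast_eq_zero F 7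
    have h5 : τ (3 + 2 * i) = 3 - 2 * i := by
      rw [map_add, map_mul, h4]
      have e3 : τ (3 : F) = 3 := map_ofNat τ 3
      have e2 : τ (2 : F) = 2 := map_ofNat τ 2
      rw [e3, e2]
      ring
    rw [h5]
    linear_combination 2 * h7 + 4 * hi

/-- `s² τ(c) = c` -/
theorem exists_hilbert [CharP F 7] {τ : F ≃+* F} (hττ : ∀ a : F, τ (τ a) = a) (hτ : ∃ a : F, τ a ≠ a) {s : F}
    (hs : s * τ s = -1) : ∃ c : F, c ≠ 0 ∧ s ^ 2 * τ c = c := by
  have hb : s ^ 2 * τ (s ^ 2) = 1 := by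
    rw [map_pow]
    have : s ^ 2 * (τ s) ^ 2 = (s * τ s) ^ 2 := by ring
    rw [this, hs]
    ring
  have key : ∀ x : F, s ^ 2 * τ (x + s ^ 2 * τ x) = x + s ^ 2 * τ x := by
    intro x
    rw [map_add, map_mul, hττ]
    linear_combination x * hb
  obtain ⟨a, ha⟩ := hτ
  by_cases h1 : (1 : F) + s ^ 2 * τ 1 = 0
  · refine ⟨a + s ^ 2 * τ a, ?_, key a⟩
    rw [map_one, mul_one] at h1
    intro h0
    apply ha
    have : s ^ 2 = -1 := by linear_combination h1
    rw [this] at h0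
    linear_combination -h0
  · exact ⟨1 + s ^ 2 * τ 1, h1, key 1⟩

variable {A : Subgroup (MulAut ↥(chevF4.group F))}

/-- **Order two, characteristic 7.** -/
theorem no_two_seven [CharP F 7] (hA : (MulAut.conj : ↥(chevF4.group F) →* MulAut ↥(chevF4.group F)).range ≤ A)
    (hord : ∀ a ∈ A, ∃ y : ↥(chevF4.group F), orderOf y = orderOf a) {τ : F ≃+* F} (hτ : orderOf τ = 2) :
    fld chevF4 τ ∉ A := by
  intro hmem
  have hττ : ∀ a : F, τ (τ a) = a := by
    intro a
    have h1 : τ ^ 2 = 1 := by rw [← hτ, pow_orderOf_eq_one]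
    have h2 := congrArg (fun σ : F ≃+* F => σ a) h1
    rw [pow_two] at h2
    exact h2
  have hne : ∃ a : F, τ a ≠ a := by
    by_contra hcon
    push Not at hcon
    have : τ = 1 := RingEquiv.ext hcon
    rw [this, orderOf_one] at hτ
    norm_num at hτ
  obtain ⟨q₀, -, hq, -⟩ := exists_fixed Nat.prime_two hτ
  obtain ⟨s, hs⟩ := exists_norm hττ hq
  obtain ⟨c, hc0, hc⟩ := exists_hilbert hττ hne hs
  have hs0 : s ≠ 0 := by
    rintro rfl
    rw [zero_mul] at hs
    exact one_ne_zero (neg_eq_zero.1 hs.symm)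
  -- the character
  set c₀ : Fin chevF4.rank → Fˣ := fun i => if (i : ℕ) = 0 then Units.mk0 s hs0 else 1 with hc₀
  obtain ⟨χ, hχ, h1, h2⟩ := exists_diagAut (F := F) hF4 c₀
  have h33 : χ 33 = Units.mk0 s hs0 := h1 (0 : Fin 4)
  have h27 : χ 27 = 1 := h1 (1 : Fin 4)
  have h25 : χ 25 = 1 := h1 (2 : Fin 4)
  have h24 : χ 24 = 1 := h1 (3 : Fin 4)
  have h30 : χ 30 = 1 := by
    have h3 := (hχ 27 (by decide)).chain (25, #[(28, -1), (30, -1)]) (by decide) 1 (30, -1) (by decide)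
    rw [h3, h25, h27]
    simp
  have h41 : χ 41 = Units.mk0 s hs0 ^ 2 := by
    have h3 := (hχ 33 (by decide)).chain (30, #[(37, -1), (41, -1)]) (by decide) 1 (41, -1) (by decide)
    rw [h3, h30, h33, one_mul]
  -- the diagonal automorphism is inner
  have hd : Nat.card (chevF4.diagonalSubgroup F) = (Nat.card F - 1) ^ chevF4.rank := card_diag_F4
  have hval : Val hF4 (diagAut hF4 hχ) c₀ 1 := by
    constructor
    · intro i t
      rw [diagAut_xe, h1]
      rfl
    · intro i t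
      rw [diagAut_xe, h2, Units.val_inv_eq_inv_val]
      rfl
  obtain ⟨g, hg⟩ := inner_of_val hd hval
  -- the automorphism of order four
  set Ψ := diagAut hF4 hχ * fld chevF4 τ with hΨ
  have hΨA : Ψ ∈ A := by
    rw [hΨ, hg]
    exact A.mul_mem (hA ⟨g, rfl⟩) hmem
  have hΨx : ∀ (r : ℕ) (t : F), Ψ (xe hF4 r t) = xe hF4 r ((χ r : F) * τ t) := by
    intro r t
    rw [hΨ, MulAut.mul_apply, fld_xe, diagAut_xe]
  have hΨ2 : ∀ (r : ℕ) (t : F), (Ψ ^ 2) (xe hF4 r t) = xe hF4 r ((χ r : F) * τ (χ r : F) * t) := by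
    intro r t
    rw [pow_two, MulAut.mul_apply, hΨx, hΨx, map_mul, hττ, mul_assoc]
  have hsq : ∀ i : Fin chevF4.rank, ((c₀ i : F) * τ (c₀ i : F)) * ((c₀ i : F) * τ (c₀ i : F)) = 1 := by
    intro i
    rw [hc₀]
    by_cases hi : (i : ℕ) = 0
    · simp only [hi, if_true, Units.val_mk0, hs]
      ring
    · simp only [hi, if_false, Units.val_one, map_one]
      ring
  have hΨ4 : Ψ ^ 4 = 1 := by
    have e : Ψ ^ 4 = Ψ ^ 2 * Ψ ^ 2 := by rw [← pow_add]
    rw [e]
    apply ext_values (hD := hF4)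
    · intro i t
      rw [MulAut.mul_apply, hΨ2, hΨ2, h1, ← mul_assoc, hsq i, one_mul]
      rfl
    · intro i t
      rw [MulAut.mul_apply, hΨ2, hΨ2, h2, ← mul_assoc, Units.val_inv_eq_inv_val, map_inv₀, ← mul_inv, ← mul_inv, hsq i,
        inv_one, one_mul]
      rfl
  have hΨ2ne : Ψ ^ 2 ≠ 1 := by
    intro h
    have h3 := hΨ2 33 1
    rw [h, h33] at h3
    have h4 : (1 : F) = (Units.mk0 s hs0 : F) * τ (Units.mk0 s hs0 : F) * 1 := xe_inj hF4 (by decide) h3
    rw [Units.val_mk0, hs] at h4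
    have h7 : (7 : F) = 0 := by exact_mod_cast CharP.cast_eq_zero F 7
    exact one_ne_zero (α := F) (by linear_combination 4 * h4 - h7)
  have hord4 : orderOf Ψ = 4 := by
    have hf2 : Fact (Nat.Prime 2) := ⟨Nat.prime_two⟩
    have := orderOf_eq_prime_pow (p := 2) (n := 1) (x := Ψ) (by rw [pow_one]; exact hΨ2ne) (by exact hΨ4)
    rw [this]
    norm_num
  -- the unipotent element
  have hfix : Ψ (regB c) = regB c := by
    have h5 : Ψ (xe hF4 41 c) = xe hF4 41 c := by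
      rw [hΨx, h41, Units.val_pow_eq_pow_val, Units.val_mk0, hc]
    have h6 : ∀ r : ℕ, χ r = 1 → Ψ (xe hF4 r 1) = xe hF4 r 1 := by
      intro r hr
      rw [hΨx, hr, Units.val_one, one_mul, map_one]
    have e : regB c = xe hF4 41 c * (xe hF4 27 1 * (xe hF4 25 1 * xe hF4 24 1)) := by simp [regB, uw]
    rw [e, map_mul, map_mul, map_mul, h5, h6 27 h27, h6 25 h25, h6 24 h24]
  obtain ⟨k, hk, h⟩ := regB_order (F := F) hc0
  refine false_of_fixed hA hord hΨA hfix (n := 196) ?_ ?_ no_196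
  · rw [h, hord4]
    exact Nat.Coprime.pow_left k (by norm_num)
  · rw [h, hord4, show 196 = 7 ^ 2 * 4 by norm_num]
    exact mul_dvd_mul_right (pow_dvd_pow 7 hk) 4

end Cfsg.Agent.H351.F4Out.Seven
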